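import Groth.Agent.CICohLib.Seq
import Groth.Agent.CurveCohLib.Euler
import Groth.Agent.PnCoh.Finite.SerreVanishing
import Groth.Agent.S2926
import Groth.Agent.S0844

/-!
Cohomology of the twists of the structure sheaf of a complete intersection.
-/

noncomputable section

set_option autoImplicit false
set_option linter.style.haveILetI false
set_option linter.unusedSectionVars false
set_option backward.isDefEq.respectTransparency false
set_option backward.isDefEq.respectTransparency.types false

universe u

open CategoryTheory CategoryTheory.Limits AlgebraicGeometry TopologicalSpace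
open Groth.Agent.PnCoh.Finite (mapLin deltaLin)

namespace Groth.Agent.CICohLib

variable {k : Type u} [Field k]

section Maps

variable {X : Scheme.{u}} [X.Over (Spec (CommRingCat.of k))]

theorem surjective_comp {A B C : X.Modules} {f : A ⟶ B} {g : B ⟶ C} (hf : Function.Surjective (mapLin k f 0))
    (hg : Function.Surjective (mapLin k g 0)) : Function.Surjective (mapLin k (f ≫ g) 0) := fun z => by
  obtain ⟨y, rfl⟩ := hg z
  obtain ⟨x, rfl⟩ := hf y
  exact ⟨x, (PnCoh.Finite.map_map (Y := X.toPresheafedSpace.carrier)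
    ((QCoh.toAbFunctor X).map_comp f g).symm 0 x).symm⟩

theorem surjective_of_iso {A B : X.Modules} (f : A ⟶ B) [IsIso f] :
    Function.Surjective (mapLin k f 0) := fun y => by
  refine ⟨mapLin k (inv f) 0 y, ?_⟩
  refine (PnCoh.Finite.map_map (Y := X.toPresheafedSpace.carrier)
    (((QCoh.toAbFunctor X).map_comp (inv f) f).symm.trans (by rw [IsIso.inv_hom_id, CategoryTheory.Functor.map_id])) 0 y).trans ?_
  show ((Sheaf.functorH _ 0).map (𝟙 _)).hom y = y
  rw [CategoryTheory.Functor.map_id]
  rfl

end Maps

variable {n : ℕ}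

local notation "P" => CohB1.ProjSpace n k
local notation "O[" i "]" => Twist.twistProjSpace n k i

/-- The twisted structure sheaf of a closed subscheme of projective space. -/
abbrev twQuot (I : (P).IdealSheafData) (i : ℤ) : (P).Modules :=
  (DCoh.tensorBi.obj O[i]).obj (ClSub.quotMod I)

/-- The restriction map to the twisted structure sheaf. -/
abbrev twRes (I : (P).IdealSheafData) (i : ℤ) :
    (DCoh.tensorBi.obj O[i]).obj (Coh.structureModule P) ⟶ twQuot I i :=
  (DCoh.tensorBi.obj O[i]).map (ClSub.toSubscheme I)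

theorem main : ∀ (r : ℕ) {a : Fin r → ℕ}, (∀ j, 1 ≤ a j) → ∀ (G : ∀ j : Fin r, LefPen.Form n k (a j)) (m : ℕ),
    m + r = n → DimLE G m → ((LefPen.ciIdeal G).support : Set P).Nonempty →
    (∀ i p, 0 < p → p < m → Subsingleton (Coh.HH P (twQuot (LefPen.ciIdeal G) i) p)) ∧
      (1 ≤ m → ∀ i, Function.Surjective (mapLin k (twRes (LefPen.ciIdeal G) i) 0))
  | 0, a, _, G, m, hm, _, _ => by
    have hbot : LefPen.ciIdeal G = ⊥ := le_bot_iff.1 (iSup_le fun j => j.elim0)
    rw [hbot]
    haveI : IsIso (ClSub.toSubscheme (⊥ : (P).IdealSheafData)) :=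
      Scheme.Modules.Hom.isIso_iff_isIso_app.2 fun U => by
        rw [ConcreteCategory.isIso_iff_bijective]
        exact ConcreteCategory.bijective_of_isIso ((Scheme.IdealSheafData.subschemeι (⊥ : (P).IdealSheafData)).app U)
    refine ⟨fun i p hp hpm => ?_, fun _ i => surjective_of_iso _⟩
    haveI := Groth.Agent.S0844.result k n i p (fun h => by omega) (fun h => by omega)
    exact (S2926.hhIso k ((asIso (twRes (⊥ : (P).IdealSheafData) i)).symm ≪≫
      KFlatLib.tensorUnitIso O[i]) p).toEquiv.subsingleton
  | r + 1, a, ha, G, m, hm, h, hne => by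
    have hpre : ((LefPen.ciIdeal (pre G)).support : Set P).Nonempty :=
      hne.mono fun x hx => (mem_support_ci (pre G) x).2 fun j => (mem_support_ci G x).1 hx j.castSucc
    obtain ⟨hvan, hsurj⟩ := main r (fun j => ha j.castSucc) (pre G) (m + 1) (by omega)
      (dimLE_pre G (ha _) h) hpre
    refine ⟨fun i p hp hpm => ?_, fun h1 i => ?_⟩
    · obtain ⟨S, e₁, e₂, e₃, hS, -⟩ := exists_step_seq G (m := m) (by omega) h hne i
      haveI h₂ : Subsingleton (Coh.HH P S.X₂ p) :=
        haveI := hvan i p hp (by omega)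
        (S2926.hhIso k e₂ p).toEquiv.subsingleton
      haveI h₁ : Subsingleton (Coh.HH P S.X₁ (p + 1)) :=
        haveI := hvan (i - (a (Fin.last r) : ℤ)) (p + 1) (by omega) (by omega)
        (S2926.hhIso k e₁ (p + 1)).toEquiv.subsingleton
      haveI := PnCoh.Finite.subsingleton_HH_X₃ hS p h₂ h₁
      exact (S2926.hhIso k e₃ p).symm.toEquiv.subsingleton
    · obtain ⟨S, e₁, e₂, e₃, hS, hw⟩ := exists_step_seq G (m := m) (by omega) h hne i
      haveI h₁ : Subsingleton (Coh.HH P S.X₁ 1) :=
        haveI := hvan (i - (a (Fin.last r) : ℤ)) 1 one_pos (by omega)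
        (S2926.hhIso k e₁ 1).toEquiv.subsingleton
      have hg : Function.Surjective (mapLin k S.g 0) := fun x =>
        PnCoh.Finite.exists_of_deltaLin_eq_zero k hS 0 (h₁.elim _ _)
      rw [show twRes (LefPen.ciIdeal G) i = (twRes (LefPen.ciIdeal (pre G)) i ≫ e₂.inv) ≫ S.g ≫ e₃.hom from hw.symm]
      exact surjective_comp (surjective_comp (hsurj (by omega) i) (surjective_of_iso e₂.inv))
        (surjective_comp hg (surjective_of_iso e₃.hom))

end Groth.Agent.CICohLib
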