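import Groth.Agent.CICohLib.Dim

/-!
The irreducible components of an intersection of hypersurfaces.
-/

set_option autoImplicit false
set_option linter.style.haveILetI false
set_option backward.isDefEq.respectTransparency false
set_option backward.isDefEq.respectTransparency.types false

universe u

open CategoryTheory AlgebraicGeometry TopologicalSpace

namespace Groth.Agent.CICohLib

open Groth.Agent.VarDim Groth.Agent.VarDim.ProjN

variable {k : Type u} [Field k] {n r : ℕ} {a : Fin r → ℕ}

theorem dim_component (ha : ∀ j, 1 ≤ a j) (G : ∀ j : Fin r, LefPen.Form n k (a j)) {m : ℕ} (hm : n = m + r)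
    (hdim : topologicalKrullDim ↥(LefPen.ciIdeal G).subscheme ≤ m)
    {Z : Set ↥(LefPen.ciIdeal G).subscheme} (hZ : Z ∈ irreducibleComponents ↥(LefPen.ciIdeal G).subscheme) :
    topologicalKrullDim ↥Z = (m : WithBot ℕ∞) := by
  refine le_antisymm ((topologicalKrullDim_subspace_le _ Z).trans hdim) ?_
  let ι := (LefPen.ciIdeal G).subschemeι
  have hZc := isClosed_of_mem_irreducibleComponents Z hZ
  obtain ⟨c, hc, hdimc⟩ := exists_genericPoint (Z := (ι '' Z : Set (ProjectiveSpectrum (CohB1.polyGrading n k))))
    (ι.isClosedEmbedding.isClosedMap Z hZc) (hZ.1.image _ ι.continuous.continuousOn)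
  obtain ⟨z, hzZ, hzc⟩ := (hc c).2 le_rfl
  have hcY : ∀ j, (G j).1 ∈ (pp c).asIdeal :=
    hzc ▸ (mem_support_ci G _).1 ((LefPen.ciIdeal G).range_subschemeι.le (Set.mem_range_self z))
  have hmin := le_pdim_of_minimal G ha hcY fun d hd hdc => by
    obtain ⟨w, rfl⟩ : d ∈ Set.range ι :=
      (LefPen.ciIdeal G).range_subschemeι.ge ((mem_support_ci G _).2 hd)
    have hwz : w ⤳ z := by
      refine ι.isClosedEmbedding.isInducing.specializes_iff.1 ?_
      rw [specializes_iff_mem_closure, hzc]
      exact (ProjectiveSpectrum.le_iff_mem_closure _ _ c).1 hdc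
    have hsub : Z ⊆ closure {w} := fun y hy => by
      have hy' : c ≤ ι y := (hc (ι y)).1 ⟨y, hy, rfl⟩
      refine (ι.isClosedEmbedding.isInducing.specializes_iff.1 ?_).mem_closure
      rw [specializes_iff_mem_closure]
      exact (ProjectiveSpectrum.le_iff_mem_closure _ _ _).1 (hdc.trans hy')
    have heq := hZ.2 isIrreducible_singleton.closure hsub (subset_closure rfl)
    exact le_antisymm hdc ((hc _).1 ⟨w, heq, rfl⟩)
  rw [IsHomeomorph.topologicalKrullDim_eq _ (ι.isClosedEmbedding.isEmbedding.homeomorphImage Z).isHomeomorph]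
  refine le_of_le_of_eq ?_ hdimc.symm
  exact_mod_cast (show m ≤ pdim c by omega)

end Groth.Agent.CICohLib
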