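import Groth.Agent.HypX.Basic
import Groth.Agent.Div21Lib.Stalks
import Groth.Agent.VarDim.Proj
import Groth.Agent.GrModX.QCohTilde
import Groth.Agent.IntMultCartier.Dim
import Groth.Agent.CotTLib.CI
import Groth.Agent.CartierFP.Stalks
import Groth.Agent.ExtShX.PnLocal
import Groth.Agent.S10829

/-!
Intersections of hypersurfaces of projective space: dimensions and regular sequences.
-/

noncomputable section

set_option autoImplicit false
set_option linter.style.haveILetI false
set_option linter.unusedSectionVars false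
set_option backward.isDefEq.respectTransparency false
set_option backward.isDefEq.respectTransparency.types false

universe u

open CategoryTheory AlgebraicGeometry TopologicalSpace IsLocalRing

namespace Groth.Agent.CICohLib

open Groth.Agent.VarDim Groth.Agent.VarDim.ProjN

variable {k : Type u} [Field k] {n : ℕ}

local notation "P" => CohB1.ProjSpace n k
local notation "A" => MvPolynomial (Fin (n + 1)) k
local notation "𝒜" => CohB1.polyGrading n k

/-- The local equation of a form at a point. -/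
def gm {d : ℕ} (G : LefPen.Form n k d) (i : Fin (n + 1)) {x : P} (hx : x ∈ LefPen.chart n k i) :
    (P).presheaf.stalk x :=
  (P).presheaf.germ (LefPen.chart n k i) x hx (LefPen.dehom G i)

theorem exists_chart (x : P) : ∃ i, x ∈ LefPen.chart n k i := by
  obtain ⟨j, hj⟩ := PnCoh.Chow.cov_coord _ x
  exact ⟨j.down, hj⟩

theorem st_hypIdeal {d : ℕ} (G : LefPen.Form n k d) (i : Fin (n + 1)) {x : P} (hx : x ∈ LefPen.chart n k i) :
    Div21Lib.st (LefPen.hypIdeal G) x = Ideal.span {gm G i hx} := by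
  rw [Div21Lib.st_eq _ (HypX.chartAff i) hx, CDivEq.stk, HypX.hypIdeal_chart, Ideal.map_span, Set.image_singleton]
  rfl

theorem isUnit_gm {d : ℕ} (G : LefPen.Form n k d) (i : Fin (n + 1)) {x : P} (hx : x ∈ LefPen.chart n k i) :
    IsUnit (gm G i hx) ↔ G.1 ∉ (pp (x : ProjectiveSpectrum 𝒜)).asIdeal := by
  rw [gm, ← Scheme.mem_basicOpen _ _ _ hx]
  erw [GrModX.basicOpen_awayToSection 𝒜]
  exact ⟨fun h h' => h (Ideal.mul_mem_left _ _ h'), fun h h' =>
    ((x : ProjectiveSpectrum 𝒜).isPrime.mem_or_mem h').elim hx h⟩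

variable {r : ℕ} {a : Fin r → ℕ} (G : ∀ j : Fin r, LefPen.Form n k (a j))

theorem st_ciIdeal (i : Fin (n + 1)) {x : P} (hx : x ∈ LefPen.chart n k i) :
    Div21Lib.st (LefPen.ciIdeal G) x = Ideal.ofList (List.ofFn fun j => gm (G j) i hx) := by
  rw [Div21Lib.st_eq _ (HypX.chartAff i) hx, CDivEq.stk, LefPen.ciIdeal, Scheme.IdealSheafData.ideal_iSup,
    iSup_apply]
  simp only [HypX.hypIdeal_chart, Ideal.map_iSup, Ideal.map_span, Set.image_singleton]
  rw [← Submodule.span_iUnion, Ideal.ofList]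
  congr 1
  ext y
  simp only [Set.mem_iUnion, Set.mem_singleton_iff, List.mem_ofFn, Set.mem_setOf_eq]
  exact ⟨fun ⟨j, h⟩ => ⟨j, h.symm⟩, fun ⟨j, h⟩ => ⟨j, h.symm⟩⟩

theorem mem_support_ci (x : P) :
    x ∈ ((LefPen.ciIdeal G).support : Set P) ↔ ∀ j, (G j).1 ∈ (pp (x : ProjectiveSpectrum 𝒜)).asIdeal := by
  obtain ⟨i, hx⟩ := exists_chart x
  rw [← not_iff_not, Div21Lib.notMem_support_iff, st_ciIdeal G i hx]
  push Not
  constructor
  · intro h
    by_contra! h'
    refine (maximalIdeal.isMaximal ((P).presheaf.stalk x)).ne_top (top_le_iff.1 (h ▸ Ideal.span_le.2 ?_))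
    intro y hy
    obtain ⟨j, rfl⟩ := List.mem_ofFn.1 hy
    exact fun hu => (isUnit_gm (G j) i hx).1 hu (h' j)
  · rintro ⟨j, hj⟩
    exact Ideal.eq_top_of_isUnit_mem _ (Ideal.subset_span (List.mem_ofFn.2 ⟨j, rfl⟩)) ((isUnit_gm (G j) i hx).2 hj)

/-- The common zeros have no component of dimension less than `n - r`. -/
theorem le_pdim_of_minimal (ha : ∀ j, 1 ≤ a j) {c : ProjectiveSpectrum 𝒜}
    (hc : ∀ j, (G j).1 ∈ (pp c).asIdeal)
    (hmin : ∀ d : ProjectiveSpectrum 𝒜, (∀ j, (G j).1 ∈ (pp d).asIdeal) → d ≤ c → d = c) :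
    n ≤ pdim c + r := by
  classical
  let s : Finset A := Finset.univ.image fun j => (G j).1
  have hJ : (Ideal.span (s : Set A)).IsHomogeneous 𝒜 := Ideal.homogeneous_span _ _ fun y hy => by
    obtain ⟨j, -, rfl⟩ := Finset.mem_image.1 hy
    exact ⟨a j, (G j).2⟩
  have hle : ∀ d : ProjectiveSpectrum 𝒜, Ideal.span (s : Set A) ≤ (pp d).asIdeal ↔ ∀ j, (G j).1 ∈ (pp d).asIdeal := by
    intro d
    simp [Ideal.span_le, Set.range_subset_iff, s]
  have hm := mem_minimalPrimes_of_minimal hJ ((hle c).2 hc) fun d hd => hmin d ((hle d).1 hd)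
  obtain ⟨x₀, hx₀⟩ := exists_bot_point (k := k) (n := n)
  have h := coheight_le_of_mem_minimalPrimes_sup (k := k) (q := pp x₀) (p := pp c) s (by rwa [hx₀, bot_sup_eq])
  rw [coheight_pp_eq, coheight_pp_eq, pdim_eq_of_eq_bot hx₀] at h
  have hs : s.card ≤ r := Finset.card_image_le.trans (by simp)
  have h' : n + 1 ≤ pdim c + 1 + s.card := by exact_mod_cast h
  omega

/-- A hypersurface meets the closure of a point, dropping the dimension by at most one. -/
theorem exists_mem_pdim {d : ℕ} (hd : 1 ≤ d) (H : LefPen.Form n k d) {y : ProjectiveSpectrum 𝒜}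
    (hy : 1 ≤ pdim y) : ∃ z, y ≤ z ∧ H.1 ∈ (pp z).asIdeal ∧ pdim y ≤ pdim z + 1 := by
  classical
  let J : Ideal A := (pp y).asIdeal ⊔ Ideal.span {H.1}
  have hJ : J.IsHomogeneous 𝒜 := (isHomogeneous_pp y).sup (Ideal.homogeneous_span _ _ (by
    rintro b (rfl : b = H.1)
    exact ⟨d, H.2⟩))
  have hH : H.1 ∈ vertex k n := by
    show MvPolynomial.constantCoeff H.1 = 0
    have h := HypX.isHomogeneous_form H
    by_contra hne
    have : (0 : Fin (n + 1) →₀ ℕ).degree = d := by
      rw [Finsupp.degree_eq_weight_one]; exact h hne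
    simp at this
    omega
  obtain ⟨Q, hQ, -⟩ := Ideal.exists_minimalPrimes_le (sup_le (pp_lt_vertexPoint y).le
    ((Ideal.span_singleton_le_iff_mem _).2 hH) : J ≤ vertex k n)
  have h1 := coheight_le_of_mem_minimalPrimes_sup (k := k) (q := pp y) (p := ⟨Q, hQ.1.1⟩) {H.1}
    (by simpa [J] using hQ)
  rw [Finset.card_singleton, coheight_pp_eq] at h1
  obtain ⟨z, hz⟩ := exists_point_minimal hJ hQ fun h => by
    subst h
    have h2 : ((pdim y + 1 : ℕ) : ℕ∞) ≤ 0 + ((1 : ℕ) : ℕ∞) := by
      rw [← coheight_vertexPoint (k := k) (n := n)]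
      exact h1
    rw [zero_add] at h2
    have : pdim y + 1 ≤ 1 := by exact_mod_cast h2
    omega
  refine ⟨z, pp_le_pp.1 (hz ▸ le_sup_left.trans hQ.1.2), hz ▸ hQ.1.2 (Ideal.mem_sup_right (Ideal.subset_span rfl)), ?_⟩
  have e : pp z = ⟨Q, hQ.1.1⟩ := PrimeSpectrum.ext hz
  rw [← e, coheight_pp_eq] at h1
  have : pdim y + 1 ≤ pdim z + 1 + 1 := by exact_mod_cast h1
  omega

theorem pdim_le_of_dim {m : ℕ} (hdim : topologicalKrullDim ↥(LefPen.ciIdeal G).subscheme ≤ m) (x : P)
    (hx : ∀ j, (G j).1 ∈ (pp (x : ProjectiveSpectrum 𝒜)).asIdeal) : pdim (x : ProjectiveSpectrum 𝒜) ≤ m := by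
  have h := le_topologicalKrullDim (Z := ((LefPen.ciIdeal G).support : Set P)) (LefPen.ciIdeal G).support.isClosed
    ((mem_support_ci G x).2 hx)
  have he : topologicalKrullDim ↥((LefPen.ciIdeal G).support : Set P) =
      topologicalKrullDim ↥(LefPen.ciIdeal G).subscheme := by
    rw [← IsHomeomorph.topologicalKrullDim_eq _
      (((LefPen.ciIdeal G).subschemeι.isClosedEmbedding.isEmbedding.toHomeomorph.trans
        (Homeomorph.setCongr (LefPen.ciIdeal G).range_subschemeι)).isHomeomorph)]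
  have := h.trans (he.le.trans hdim)
  exact_mod_cast this

theorem deg_eq_pdim (x : P) : deg (CohB1.ProjSpace.toSpec n k) x = pdim (x : ProjectiveSpectrum 𝒜) := by
  haveI : IsProper (CohB1.ProjSpace.toSpec n k) := PnCoh.Chow.isProper_toSpec n k
  have h := VarDim.topologicalKrullDim_closure_singleton (CohB1.ProjSpace.toSpec n k) x
  have h' := ProjN.topologicalKrullDim_closure_singleton (x : ProjectiveSpectrum 𝒜)
  exact_mod_cast h.symm.trans h'

/-- At a common zero, the local equations form a regular sequence. -/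
theorem isWeaklyRegular_gm {m : ℕ} (hm : m + r ≤ n)
    (hdim : ∀ x : P, (∀ j, (G j).1 ∈ (pp (x : ProjectiveSpectrum 𝒜)).asIdeal) → pdim (x : ProjectiveSpectrum 𝒜) ≤ m)
    (i : Fin (n + 1)) {x : P} (hx : x ∈ LefPen.chart n k i) (hxX : x ∈ ((LefPen.ciIdeal G).support : Set P)) :
    RingTheory.Sequence.IsWeaklyRegular ((P).presheaf.stalk x) (List.ofFn fun j => gm (G j) i hx) := by
  haveI := ExtShX.isRegularLocalRing_stalk_pn (k := k) x
  have hmem : ∀ b ∈ List.ofFn (fun j => gm (G j) i hx), b ∈ maximalIdeal ((P).presheaf.stalk x) := by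
    intro b hb
    obtain ⟨j, rfl⟩ := List.mem_ofFn.1 hb
    exact fun hu => (isUnit_gm (G j) i hx).1 hu ((mem_support_ci G x).1 hxX j)
  refine CotTLib.isWeaklyRegular_of_dim _ hmem ?_
  haveI : IsProper (CohB1.ProjSpace.toSpec n k) := PnCoh.Chow.isProper_toSpec n k
  haveI := H23.PnChart.isIntegral_projSpace n k
  obtain ⟨b, hb, hbn⟩ := IntMultCartier.dim_stalk (CohB1.ProjSpace.toSpec n k) (S10829.result k n) x
  obtain ⟨z, rfl⟩ : x ∈ Set.range (LefPen.ciIdeal G).subschemeι := by
    rwa [Scheme.IdealSheafData.range_subschemeι]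
  obtain ⟨c, hc, ⟨η, -, hη⟩, -⟩ := VarDim.exists_deg_add_stalk ((LefPen.ciIdeal G).subschemeι ≫ CohB1.ProjSpace.toSpec n k) z
  have hd : ∀ w, deg ((LefPen.ciIdeal G).subschemeι ≫ CohB1.ProjSpace.toSpec n k) w = deg (CohB1.ProjSpace.toSpec n k) ((LefPen.ciIdeal G).subschemeι w) := by
    intro w
    have h1 := VarDim.topologicalKrullDim_closure_singleton ((LefPen.ciIdeal G).subschemeι ≫ CohB1.ProjSpace.toSpec n k) w
    have h2 := VarDim.topologicalKrullDim_closure_singleton (CohB1.ProjSpace.toSpec n k) ((LefPen.ciIdeal G).subschemeι w)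
    rw [← Set.image_singleton, (LefPen.ciIdeal G).subschemeι.isClosedEmbedding.closure_image_eq,
      ← IsHomeomorph.topologicalKrullDim_eq _ ((LefPen.ciIdeal G).subschemeι.isClosedEmbedding.isEmbedding.homeomorphImage _).isHomeomorph] at h2
    exact_mod_cast h1.symm.trans h2
  have hηm : deg (CohB1.ProjSpace.toSpec n k) ((LefPen.ciIdeal G).subschemeι η) ≤ m := by
    rw [deg_eq_pdim]
    exact hdim _ ((mem_support_ci G _).1 ((LefPen.ciIdeal G).range_subschemeι.le (Set.mem_range_self η)))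
  rw [hd, hd] at hη
  have hquot : ringKrullDim ((P).presheaf.stalk ((LefPen.ciIdeal G).subschemeι z) ⧸ Ideal.ofList (List.ofFn fun j => gm (G j) i hx)) = c := by
    rw [← hc, ← st_ciIdeal G i hx, Div21Lib.st_eq (LefPen.ciIdeal G) (HypX.chartAff i) hx, CDivEq.stk,
      ← CartierFP.ker_stalkMap_subschemeι (LefPen.ciIdeal G) (HypX.chartAff i) z hx]
    exact ringKrullDim_eq_of_ringEquiv
      (RingHom.quotientKerEquivOfSurjective (((LefPen.ciIdeal G).subschemeι).stalkMap_surjective z))
  rw [List.length_ofFn, hquot, hb]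
  have h3 : b ≤ c + r := by
    classical
    have h := ringKrullDim_le_ringKrullDim_quotient_add_card
      ((Finset.univ : Finset (Fin r)).image fun j => gm (G j) i hx) (by
        rw [IsLocalRing.ringJacobson_eq_maximalIdeal]
        intro b' hb'
        obtain ⟨j, -, rfl⟩ := Finset.mem_image.1 hb'
        exact hmem _ (List.mem_ofFn.2 ⟨j, rfl⟩))
    rw [Finset.coe_image, Finset.coe_univ, Set.image_univ, hb, show Ideal.span (Set.range fun j => gm (G j) i hx) =
      Ideal.ofList (List.ofFn fun j => gm (G j) i hx) by simp [Ideal.ofList, List.mem_ofFn, Set.range, eq_comm],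
      hquot] at h
    have hs : ((Finset.univ : Finset (Fin r)).image fun j => gm (G j) i hx).card ≤ r :=
      Finset.card_image_le.trans (by simp)
    have h' : b ≤ c + ((Finset.univ : Finset (Fin r)).image fun j => gm (G j) i hx).card := by exact_mod_cast h
    omega
  exact_mod_cast (show r + c = b by omega)

end Groth.Agent.CICohLib
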