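import Groth.Agent.ExtShX.ProjNat
import Groth.Agent.ExtShX.Divisor
import Groth.Agent.Lib.CurveTensor
import Groth.Agent.PnCoh.Finite.HHLin
import Groth.Prelude.Def_ClSub2

/-!
The restriction map to a closed subscheme is the tensored structure map.
-/

noncomputable section

set_option autoImplicit false
set_option linter.style.haveILetI false
set_option backward.isDefEq.respectTransparency false
set_option backward.isDefEq.respectTransparency.types false

universe u

open CategoryTheory CategoryTheory.Limits AlgebraicGeometry TopologicalSpace Opposite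

namespace Groth.Agent.CICohLib

variable {X : Scheme.{u}}

theorem unitToPush_eq {Y : Scheme.{u}} (f : Y ⟶ X) :
    ClSub.unitToPush f = SheafOfModules.unitToPushforwardObjUnit f.toRingCatSheafHom := by
  refine Scheme.Modules.hom_ext _ _ fun V => AddCommGrpCat.ext fun y => ?_
  rfl

theorem isIso_transpose_unitToPush {Y : Scheme.{u}} (f : Y ⟶ X) :
    IsIso (((Scheme.Modules.pullbackPushforwardAdjunction f).homEquiv _ _).symm (ClSub.unitToPush f)) := by
  rw [unitToPush_eq]
  exact (inferInstance : IsIso (SheafOfModules.pullbackObjUnitToUnit f.toRingCatSheafHom))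

theorem exists_transfer (I : X.IdealSheafData) (N : X.Modules) :
    ∃ (e' : (DCoh.tensorBi.obj N).obj (Coh.structureModule X) ≅ N)
      (e : (DCoh.tensorBi.obj N).obj (ClSub.quotMod I) ≅
        (Scheme.Modules.pushforward I.subschemeι).obj ((Scheme.Modules.pullback I.subschemeι).obj N)),
      (DCoh.tensorBi.obj N).map (ClSub.toSubscheme I) ≫ e.hom =
        e'.hom ≫ (Scheme.Modules.pullbackPushforwardAdjunction I.subschemeι).unit.app N := by
  let f := I.subschemeι
  let adj := Scheme.Modules.pullbackPushforwardAdjunction f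
  let OZ := Coh.structureModule I.subscheme
  let τ := (DCoh.tensorBi.map (ClSub.toSubscheme I)).app N
  let θ : (Scheme.Modules.pullback f).obj ((DCoh.tensorBi.obj (Coh.structureModule X)).obj N) ⟶
      (DCoh.tensorBi.obj OZ).obj ((Scheme.Modules.pullback f).obj N) :=
    (Scheme.Modules.pullback f).map τ ≫ KFlatLib.projPre f OZ N
  haveI : IsIso θ := by
    have h1 : θ = ((KFlatLib.pullTensorBiIso f).hom.app (Coh.structureModule X)).app N ≫
        (DCoh.tensorBi.map ((adj.homEquiv _ _).symm (ClSub.toSubscheme I))).app _ := by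
      show (Scheme.Modules.pullback f).map τ ≫ _ ≫ _ = _
      refine ((Category.assoc _ _ _).symm.trans (congrArg (· ≫ _)
        (NatTrans.congr_app ((KFlatLib.pullTensorBiIso f).hom.naturality (ClSub.toSubscheme I)) N))).trans ?_
      refine (Category.assoc _ _ _).trans (congrArg (_ ≫ ·) ?_)
      rw [Adjunction.homEquiv_counit, Functor.map_comp, NatTrans.comp_app]
      rfl
    haveI : IsIso ((adj.homEquiv _ _).symm (ClSub.toSubscheme I)) := isIso_transpose_unitToPush f
    rw [h1]
    infer_instance
  have hR : τ ≫ KFlatLib.projMod f OZ N = adj.unit.app _ ≫ (Scheme.Modules.pushforward f).map θ := by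
    exact (adj.homEquiv_naturality_left τ (KFlatLib.projPre f OZ N)).symm.trans (adj.homEquiv_unit _ _ _)
  let lam : (DCoh.tensorBi.obj (Coh.structureModule X)).obj N ≅ N := CurveTensor.structureTensorIso N
  let mu : (DCoh.tensorBi.obj OZ).obj ((Scheme.Modules.pullback f).obj N) ≅ (Scheme.Modules.pullback f).obj N :=
    (asIso θ).symm ≪≫ (Scheme.Modules.pullback f).mapIso lam
  haveI := KFlatLib.isIso_projMod_of_isClosedImmersion f OZ N
  let κ := (KFlatLib.tensorBiFlipIso X).app N
  have hκ : (DCoh.tensorBi.obj N).map (ClSub.toSubscheme I) ≫ κ.inv.app _ = κ.inv.app _ ≫ τ :=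
    κ.inv.naturality (ClSub.toSubscheme I)
  refine ⟨(κ.app _).symm ≪≫ lam,
    (κ.app _).symm ≪≫ asIso (KFlatLib.projMod f OZ N) ≪≫ (Scheme.Modules.pushforward f).mapIso mu, ?_⟩
  show (DCoh.tensorBi.obj N).map (ClSub.toSubscheme I) ≫ κ.inv.app _ ≫ KFlatLib.projMod f OZ N ≫
      (Scheme.Modules.pushforward f).map mu.hom = (κ.inv.app _ ≫ lam.hom) ≫ adj.unit.app N
  rw [reassoc_of% hκ, reassoc_of% hR, ← Functor.map_comp,
    show θ ≫ mu.hom = (Scheme.Modules.pullback f).map lam.hom by simp [mu], Category.assoc]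
  exact congrArg (κ.inv.app _ ≫ ·) (adj.unit.naturality lam.hom).symm

/-- Surjectivity on global sections in terms of the zeroth cohomology. -/
theorem surjective_app_top (k : Type u) [CommRing k] [X.Over (Spec (CommRingCat.of k))] {M N : X.Modules}
    (φ : M ⟶ N) (h : Function.Surjective (PnCoh.Finite.mapLin k φ 0)) : Function.Surjective (φ.val.app (op ⊤)) := by
  intro y
  obtain ⟨z, hz⟩ := (Sheaf.H.equiv₀ (Coh.toAb N) isTerminalTop).surjective y
  obtain ⟨x, hx⟩ := h z
  refine ⟨Sheaf.H.equiv₀ (Coh.toAb M) isTerminalTop x, ?_⟩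
  show ((QCoh.toAbFunctor X).map φ).hom.app (op ⊤) (Sheaf.H.equiv₀ (Coh.toAb M) isTerminalTop x) = y
  refine (Sheaf.H.equiv₀_naturality isTerminalTop ((QCoh.toAbFunctor X).map φ) x).trans ?_
  exact (congrArg (Sheaf.H.equiv₀ (Coh.toAb N) isTerminalTop) hx).trans hz

end Groth.Agent.CICohLib
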