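import Groth.Agent.CICohLib.Cohom
import Groth.Agent.CICohLib.Transfer
import Groth.Agent.QCoh.PushLin
import Groth.Agent.HypX.PlaneH
import Groth.Agent.H23.GeomConnGamma
import Groth.Agent.CurveBC.Geometry

/-!
Cohomology of complete intersections, on the complete intersection itself.
-/

noncomputable section

set_option autoImplicit false
set_option linter.style.haveILetI false
set_option linter.unusedSectionVars false
set_option backward.isDefEq.respectTransparency false
set_option backward.isDefEq.respectTransparency.types false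

universe u

open CategoryTheory CategoryTheory.Limits AlgebraicGeometry TopologicalSpace Opposite

namespace Groth.Agent.CICohLib

variable {k : Type u} [Field k] {n r : ℕ} {a : Fin r → ℕ} (G : ∀ j : Fin r, LefPen.Form n k (a j))

local notation "P" => CohB1.ProjSpace n k
local notation "O[" i "]" => Twist.twistProjSpace n k i

theorem support_nonempty {m : ℕ} (hdim : topologicalKrullDim ↥(LefPen.ciIdeal G).subscheme = (m : WithBot ℕ∞)) :
    ((LefPen.ciIdeal G).support : Set P).Nonempty := by
  rw [← (LefPen.ciIdeal G).range_subschemeι]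
  by_contra hne
  rw [Set.not_nonempty_iff_eq_empty, Set.range_eq_empty_iff] at hne
  rw [show topologicalKrullDim ↥(LefPen.ciIdeal G).subscheme = ⊥ from
    Order.krullDim_eq_bot_iff.2 ⟨fun Z => Z.isIrreducible.nonempty.elim fun x _ => hne.elim x⟩] at hdim
  simp at hdim

theorem cohomology (ha : ∀ j, 1 ≤ a j) (m : ℕ) (hm : m + r = n)
    (hdim : topologicalKrullDim ↥(LefPen.ciIdeal G).subscheme = (m : WithBot ℕ∞)) (i : ℤ) :
    (∀ p, 0 < p → p < m → Subsingleton (Coh.HH (LefPen.ciIdeal G).subscheme
      ((Scheme.Modules.pullback (LefPen.ciIdeal G).subschemeι).obj O[i]) p)) ∧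
    (1 ≤ m → Function.Surjective (((Scheme.Modules.pullbackPushforwardAdjunction (LefPen.ciIdeal G).subschemeι).unit.app
      O[i]).val.app (op ⊤))) := by
  obtain ⟨hvan, hsurj⟩ := main r ha G m hm (fun x hx => pdim_le_of_dim G hdim.le x hx) (support_nonempty G hdim)
  obtain ⟨e', e, he⟩ := exists_transfer (LefPen.ciIdeal G) O[i]
  refine ⟨fun p hp hpm => ?_, fun h1 => ?_⟩
  · haveI := hvan i p hp hpm
    haveI : Subsingleton (Coh.HH P ((Scheme.Modules.pushforward (LefPen.ciIdeal G).subschemeι).obj
        ((Scheme.Modules.pullback (LefPen.ciIdeal G).subschemeι).obj O[i])) p) :=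
      (S2926.hhIso k e p).symm.toEquiv.subsingleton
    obtain ⟨φ⟩ := QCoh.HH_push_linear (LefPen.ciIdeal G).subschemeι
      (Coh.toGlobal (P ↘ Spec (CommRingCat.of k)))
      ((LefPen.ciIdeal G).subschemeι.appTop.hom.comp (Coh.toGlobal (P ↘ Spec (CommRingCat.of k)))) (fun _ => rfl)
      (QCoh.isQCoh_pullback (LefPen.ciIdeal G).subschemeι
        (QCoh.isQCoh_of_isFinLocFree (fun y =>
          let ⟨W, hy, he⟩ := InvEnd.isFinLocFreeOfRank_one (PnPic.isInvertible_twistProjSpace n k i) y
          ⟨W, 1, hy, he⟩))) p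
    exact φ.toEquiv.subsingleton
  · refine surjective_app_top k _ ?_
    rw [show (Scheme.Modules.pullbackPushforwardAdjunction (LefPen.ciIdeal G).subschemeι).unit.app O[i] =
      e'.inv ≫ twRes (LefPen.ciIdeal G) i ≫ e.hom by rw [he, Iso.inv_hom_id_assoc]]
    exact surjective_comp (surjective_of_iso e'.inv) (surjective_comp (hsurj h1 i) (surjective_of_iso e.hom))

end Groth.Agent.CICohLib

namespace Groth.Agent.CICohLib

variable {k : Type u} [Field k] {n r : ℕ} {a : Fin r → ℕ} (G : ∀ j : Fin r, LefPen.Form n k (a j))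

theorem geometricallyConnected (ha : ∀ j, 1 ≤ a j) (m : ℕ) (hm : m + r = n) (h1 : 1 ≤ m)
    (hdim : topologicalKrullDim ↥(LefPen.ciIdeal G).subscheme = (m : WithBot ℕ∞)) :
    GeometricallyConnected ((LefPen.ciIdeal G).subschemeι ≫ CohB1.ProjSpace.toSpec n k) := by
  haveI : IsProper (CohB1.ProjSpace.toSpec n k) := PnCoh.Chow.isProper_toSpec n k
  have hsupp := support_nonempty G hdim
  obtain ⟨-, hsurj⟩ := main r ha G m hm (fun x hx => pdim_le_of_dim G hdim.le x hx) hsupp
  let O0 := Twist.twistProjSpace n k ((0 : ℕ) : ℤ)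
  let l : (DCoh.tensorBi (X := CohB1.ProjSpace n k)).obj O0 ≅ 𝟭 _ :=
    DCoh.tensorBi.mapIso (HypX.unitIso (n := n) (k := k)).symm ≪≫
      ((KFlatLib.tensorBiFlipIso _).app (Coh.structureModule _)).symm ≪≫ KFlatLib.tensorStructureIso _
  have hS : Function.Surjective (Groth.Agent.PnCoh.Finite.mapLin k (ClSub.toSubscheme (LefPen.ciIdeal G)) 0) := by
    rw [show ClSub.toSubscheme (LefPen.ciIdeal G) =
      l.inv.app _ ≫ twRes (LefPen.ciIdeal G) ((0 : ℕ) : ℤ) ≫ l.hom.app _ by
        rw [l.hom.naturality, Iso.inv_hom_id_app_assoc]; rfl]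
    exact surjective_comp (surjective_of_iso _) (surjective_comp (hsurj h1 _) (surjective_of_iso _))
  have hι : Function.Surjective ((LefPen.ciIdeal G).subschemeι.appTop) :=
    surjective_app_top k (ClSub.toSubscheme (LefPen.ciIdeal G)) hS
  have hP : Function.Bijective (CohB1.ProjSpace.toSpec n k).appTop := by
    refine CurveBC.bijective_appTop k (CohB1.ProjSpace n k) ?_
    obtain ⟨φ⟩ := Groth.Agent.S0843.result k n 0
    rw [(S2926.hhIso k (HypX.unitIso (k := k) (n := n)) 0).finrank_eq, φ.finrank_eq,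
      (ComodLib.GradedAug.finrank_homogeneous (k := k) (n + 1) 0).2, Nat.choose_zero_right]
  refine H23.GeomConnGamma.geometricallyConnected_of_gamma _ ⟨?_, ?_⟩
  · rw [Scheme.Hom.comp_appTop]
    refine fun x y hxy => ?_
    have hnt : Nontrivial Γ((LefPen.ciIdeal G).subscheme, ⊤) := by
      rw [← (LefPen.ciIdeal G).range_subschemeι] at hsupp
      obtain ⟨-, z, -⟩ := hsupp
      exact ((LefPen.ciIdeal G).subscheme.presheaf.germ ⊤ z trivial).hom.domain_nontrivial
    let e := (Scheme.ΓSpecIso (CommRingCat.of k)).commRingCatIsoToRingEquiv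
    let φ : k →+* Γ((LefPen.ciIdeal G).subscheme, ⊤) :=
      ((CohB1.ProjSpace.toSpec n k).appTop ≫ (LefPen.ciIdeal G).subschemeι.appTop).hom.comp e.symm.toRingHom
    apply e.injective
    apply φ.injective
    simpa [φ] using hxy
  · rw [Scheme.Hom.comp_appTop]
    exact hι.comp hP.2

end Groth.Agent.CICohLib
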