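import Groth.Agent.AssPtX.Basic
import Groth.Agent.ParShLib.ResStalk

/-!
Points where a function is regular on a closed subscheme are not associated to its structure sheaf.
-/

noncomputable section

set_option autoImplicit false
set_option linter.style.haveILetI false
set_option backward.isDefEq.respectTransparency false
set_option backward.isDefEq.respectTransparency.types false

universe u

open CategoryTheory AlgebraicGeometry TopologicalSpace IsLocalRing Opposite

namespace Groth.Agent.CICohLib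

variable {X : Scheme.{u}}

theorem eq_zero_of_germ_smul (I : X.IdealSheafData) {U : X.Opens} (f : Γ(X, U)) {x : X} (hx : x ∈ U)
    (hnz : ∀ z, I.subschemeι z = x → ∀ (hz : I.subschemeι z ∈ U),
      (I.subschemeι.stalkMap z).hom (X.presheaf.germ U (I.subschemeι z) hz f) ∈ nonZeroDivisors _)
    (q : (ClSub.quotMod I).presheaf.stalk x) (h : X.presheaf.germ U x hx f • q = 0) : q = 0 := by
  by_cases hxI : x ∈ I.support
  swap
  · haveI : Subsingleton ((ClSub.quotMod I).presheaf.stalk x) := ParShLib.subsingleton_stalk_quotMod I hxI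
    exact Subsingleton.elim _ _
  obtain ⟨z, rfl⟩ : x ∈ Set.range I.subschemeι := I.range_subschemeι.ge hxI
  obtain ⟨V₀, hxV₀, s₀, rfl⟩ := (ClSub.quotMod I).presheaf.germ_exist q
  let V : X.Opens := U ⊓ V₀
  have hxV : I.subschemeι z ∈ V := ⟨hx, hxV₀⟩
  let f' : Γ(X, V) := X.presheaf.map (homOfLE inf_le_left).op f
  let s : Γ(ClSub.quotMod I, V) := (ClSub.quotMod I).presheaf.map (homOfLE inf_le_right).op s₀
  rw [← (ClSub.quotMod I).presheaf.germ_res_apply (homOfLE (inf_le_right : V ≤ V₀)) _ hxV s₀] at h ⊢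
  rw [← X.presheaf.germ_res_apply (homOfLE (inf_le_left : V ≤ U)) _ hxV f] at h
  have h' : (ClSub.quotMod I).presheaf.germ V _ hxV (f' • s) = 0 := (QCoh.germ_smul' (ClSub.quotMod I) hxV f' s).trans h
  obtain ⟨W, hxW, i₁, i₂, hW⟩ := TopCat.Presheaf.germ_eq (ClSub.quotMod I).presheaf _ hxV hxV (f' • s) 0
    (h'.trans (map_zero _).symm)
  let t : Γ(I.subscheme, I.subschemeι ⁻¹ᵁ V) := s
  have hzV : z ∈ I.subschemeι ⁻¹ᵁ V := hxV
  have h0 : I.subscheme.presheaf.germ (I.subschemeι ⁻¹ᵁ V) z hzV (I.subschemeι.app V f' * t) = 0 := by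
    rw [← I.subscheme.presheaf.germ_res_apply ((Opens.map I.subschemeι.base).map i₁) z hxW]
    have hW' : I.subscheme.presheaf.map ((Opens.map I.subschemeι.base).map i₁).op (I.subschemeι.app V f' * t) = 0 :=
      hW.trans (map_zero ((ClSub.quotMod I).presheaf.map i₂.op).hom)
    exact (congrArg _ hW').trans (map_zero _)
  rw [map_mul, ← Scheme.Hom.germ_stalkMap_apply I.subschemeι V z hxV f'] at h0
  have hn := hnz z rfl hx
  rw [← X.presheaf.germ_res_apply (homOfLE (inf_le_left : V ≤ U)) _ hxV f] at hn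
  have h1 : I.subscheme.presheaf.germ (I.subschemeι ⁻¹ᵁ V) z hzV t = 0 :=
    (mem_nonZeroDivisors_iff_right.1 hn) _ (by rw [mul_comm]; exact h0)
  obtain ⟨O, hzO, j₁, j₂, hO⟩ := TopCat.Presheaf.germ_eq I.subscheme.presheaf _ hzV hzV t 0
    (h1.trans (map_zero _).symm)
  obtain ⟨O', hO'o, hO'⟩ := I.subschemeι.isClosedEmbedding.isInducing.isOpen_iff.1 O.isOpen
  let W' : X.Opens := ⟨O', hO'o⟩ ⊓ V
  have hW'O : I.subschemeι ⁻¹ᵁ W' ≤ O := fun w hw => hO'.le hw.1
  have hxW' : I.subschemeι z ∈ W' := ⟨hO'.ge hzO, hxV⟩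
  rw [← (ClSub.quotMod I).presheaf.germ_res_apply (homOfLE (inf_le_right : W' ≤ V)) _ hxW' s]
  have hz : (ClSub.quotMod I).presheaf.map (homOfLE (inf_le_right : W' ≤ V)).op s = 0 := by
    show I.subscheme.presheaf.map ((Opens.map I.subschemeι.base).map (homOfLE (inf_le_right : W' ≤ V))).op t = 0
    rw [show ((Opens.map I.subschemeι.base).map (homOfLE (inf_le_right : W' ≤ V))).op = j₁.op ≫ (homOfLE hW'O).op
      from Subsingleton.elim _ _, Functor.map_comp]
    show I.subscheme.presheaf.map (homOfLE hW'O).op (I.subscheme.presheaf.map j₁.op t) = 0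
    rw [hO, map_zero, map_zero]
  rw [hz, map_zero]

theorem not_isAssPoint_quotMod (I : X.IdealSheafData) {U : X.Opens} (f : Γ(X, U)) {x : X} (hx : x ∈ U)
    (hm : X.presheaf.germ U x hx f ∈ maximalIdeal (X.presheaf.stalk x))
    (hnz : ∀ z, I.subschemeι z = x → ∀ (hz : I.subschemeι z ∈ U),
      (I.subschemeι.stalkMap z).hom (X.presheaf.germ U (I.subschemeι z) hz f) ∈ nonZeroDivisors _) :
    ¬ Curv2.IsAssPoint (ClSub.quotMod I) x := by
  intro h
  obtain ⟨q, hq⟩ := AssPtX.isAssPoint_iff.1 h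
  obtain ⟨N, hN⟩ := (hq.ge hm : _ ∈ Ideal.radical _)
  rw [LinearMap.mem_ker, LinearMap.toSpanSingleton_apply] at hN
  have key : ∀ N : ℕ, X.presheaf.germ U x hx f ^ N • q = 0 → q = 0 := by
    intro N
    induction N with
    | zero => intro h; rwa [pow_zero, one_smul] at h
    | succ N ih =>
      intro h
      rw [pow_succ', mul_smul] at h
      exact ih (eq_zero_of_germ_smul I f hx hnz _ h)
  have h1 : (1 : X.presheaf.stalk x) ∈ maximalIdeal (X.presheaf.stalk x) :=
    hq.le ⟨1, by rw [pow_one, LinearMap.mem_ker, LinearMap.toSpanSingleton_apply, key N hN, smul_zero]⟩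
  exact (maximalIdeal.isMaximal _).ne_top ((Ideal.eq_top_iff_one _).2 h1)

end Groth.Agent.CICohLib
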