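import Groth.Agent.CICohLib.Step
import Groth.Agent.CICohLib.NotAss
import Groth.Agent.IntSym.QuotTensor
import Groth.Agent.Lib.CurveTensor
import Groth.Agent.ExtShX.Divisor
import Groth.Agent.PnPic.Twist

/-!
The sequence of one step of a complete intersection on projective space.
-/

noncomputable section

set_option autoImplicit false
set_option linter.style.haveILetI false
set_option linter.unusedSectionVars false
set_option backward.isDefEq.respectTransparency false
set_option backward.isDefEq.respectTransparency.types false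

universe u

open CategoryTheory CategoryTheory.Limits AlgebraicGeometry TopologicalSpace

namespace Groth.Agent.CICohLib

section Gen

variable {X : Scheme.{u}}

local notation "O_" => Coh.structureModule X

/-- The cokernel of multiplication by a second ideal is the structure sheaf of the intersection. -/
theorem exists_quot_map (I J : X.IdealSheafData) {A B : X.Modules} (ψ : A ⟶ ClSub.quotMod I) [Mono ψ]
    (a : B ⟶ A) [Epi a] (l : B ≅ ClSub.idealMod J) (β β' : O_ ⟶ O_) (hββ : β' ≫ β = 𝟙 _)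
    (key : a ≫ ψ = l.hom ≫ ClSub.idealModι J ≫ β ≫ ClSub.toSubscheme I) :
    ∃ (q : ClSub.quotMod I ⟶ ClSub.quotMod (I ⊔ J)) (w : ψ ≫ q = 0),
      (ShortComplex.mk ψ q w).ShortExact ∧ ClSub.toSubscheme I ≫ q = ClSub.toSubscheme (I ⊔ J) := by
  haveI : Epi (ClSub.toSubscheme I) := CurvePoint.epi_toSubscheme I
  haveI : Epi (ClSub.toSubscheme (I ⊔ J)) := CurvePoint.epi_toSubscheme (I ⊔ J)
  obtain ⟨q₁, hq₁⟩ := CokernelCofork.IsColimit.desc' (IntSym.shortExact_toSubscheme I).gIsCokernel _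
    (IntSym.QuotTensor.ι_toSubscheme_of_le (I := I ⊔ J) (K := I) le_sup_left)
  have hq₁' : ClSub.toSubscheme I ≫ q₁ = ClSub.toSubscheme (I ⊔ J) := hq₁
  have hψ : ψ ≫ q₁ = 0 := by
    rw [← cancel_epi a, reassoc_of% key, hq₁',
      IntSym.QuotTensor.comp_auto J _ (IntSym.QuotTensor.ι_toSubscheme_of_le (I := I ⊔ J) le_sup_right) β,
      comp_zero, comp_zero]
  let g : O_ ⟶ cokernel ψ := ClSub.toSubscheme I ≫ cokernel.π ψ
  have hgI : ClSub.idealModι I ≫ g = 0 := by
    simp only [g]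
    rw [← Category.assoc, show ClSub.idealModι I ≫ ClSub.toSubscheme I = 0 from kernel.condition _, zero_comp]
  have hgJ : ClSub.idealModι J ≫ g = 0 := by
    have h1 : ClSub.idealModι J ≫ β ≫ g = 0 := by
      rw [← cancel_epi l.hom]
      simp only [g]
      rw [← reassoc_of% key, cokernel.condition, comp_zero, comp_zero]
    have h2 := IntSym.QuotTensor.comp_auto J (β ≫ g) h1 β'
    rwa [← Category.assoc β', hββ, Category.id_comp] at h2
  obtain ⟨r, hr⟩ := CokernelCofork.IsColimit.desc' (IntSym.shortExact_toSubscheme (I ⊔ J)).gIsCokernel g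
    (IntSym.QuotTensor.comp_sup I J g hgI hgJ)
  have hr' : ClSub.toSubscheme (I ⊔ J) ≫ r = g := hr
  let e : cokernel ψ ≅ ClSub.quotMod (I ⊔ J) :=
    { hom := cokernel.desc ψ q₁ hψ
      inv := r
      hom_inv_id := by
        rw [← cancel_epi (cokernel.π ψ), ← cancel_epi (ClSub.toSubscheme I), cokernel.π_desc_assoc,
          reassoc_of% hq₁', hr', Category.comp_id]
      inv_hom_id := by
        rw [← cancel_epi (ClSub.toSubscheme (I ⊔ J)), reassoc_of% hr']
        simp only [g, Category.assoc, cokernel.π_desc, hq₁', Category.comp_id] }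
  haveI : Epi q₁ := by
    haveI : Epi (ClSub.toSubscheme I ≫ q₁) := by rw [hq₁']; infer_instance
    exact epi_of_epi (ClSub.toSubscheme I) q₁
  exact ⟨q₁, hψ, ShortComplex.ShortExact.mk' (ShortComplex.exact_of_g_is_cokernel _
    (IsColimit.ofIsoColimit (cokernelIsCokernel ψ) (Cofork.ext e (cokernel.π_desc ψ q₁ hψ)))) inferInstance inferInstance, hq₁'⟩

/-- Cutting a closed subscheme by a divisor through none of its associated points. -/
theorem exists_cut_seq [IsLocallyNoetherian X] (I J : X.IdealSheafData) (hJ : BlowUp.IsEffCartierIdeal J)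
    (hass : ∀ x ∈ J.support, ¬ Curv2.IsAssPoint (ClSub.quotMod I) x) :
    ∃ (S : ShortComplex X.Modules) (e₁ : S.X₁ ≅ CohB1.tensorMod (ClSub.quotMod I) (ClSub.idealMod J))
      (e₂ : S.X₂ ≅ ClSub.quotMod I) (e₃ : S.X₃ ≅ ClSub.quotMod (I ⊔ J)), S.ShortExact ∧
      (ClSub.toSubscheme I ≫ e₂.inv) ≫ S.g ≫ e₃.hom = ClSub.toSubscheme (I ⊔ J) := by
  haveI : Epi (ClSub.toSubscheme I) := CurvePoint.epi_toSubscheme I
  let m := (DCoh.tensorBi (X := X)).map (ClSub.toSubscheme I)
  haveI : Epi (m.app (ClSub.idealMod J)) :=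
    inferInstanceAs (Epi (((DCoh.tensorBi (X := X)).flip.obj (ClSub.idealMod J)).map (ClSub.toSubscheme I)))
  let T := (DCoh.tensorBi (X := X)).obj (ClSub.quotMod I)
  haveI := IntSym.mono_tensor_idealModι hJ (ParShLib.isCoh_quotMod I).1 hass
  let u : T.obj O_ ≅ ClSub.quotMod I := AmpleVan.twUnit.app (ClSub.quotMod I)
  let v : ((DCoh.tensorBi (X := X)).obj O_).obj O_ ≅ O_ := AmpleVan.twUnit.app O_
  let l : (DCoh.tensorBi (X := X)).obj O_ ≅ 𝟭 X.Modules :=
    ((KFlatLib.tensorBiFlipIso X).app O_).symm ≪≫ KFlatLib.tensorStructureIso X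
  haveI : Mono (T.map (ClSub.idealModι J) ≫ u.hom) := mono_comp _ _
  obtain ⟨q, w, hS, hq⟩ := exists_quot_map I J (T.map (ClSub.idealModι J) ≫ u.hom) (m.app _) (l.app _)
    (l.inv.app O_ ≫ v.hom) (v.inv ≫ l.hom.app O_) (by simp)
    (IntSym.QuotTensor.key_gen m l (ClSub.idealModι J) v.hom u.hom (ClSub.toSubscheme I)
      ((AmpleVan.twUnit (X := X)).hom.naturality (ClSub.toSubscheme I)).symm)
  exact ⟨ShortComplex.mk _ q w, Iso.refl _, Iso.refl _, Iso.refl _, hS, by simp [hq]⟩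

end Gen

open Groth.Agent.VarDim Groth.Agent.VarDim.ProjN

variable {k : Type u} [Field k] {n : ℕ} {r : ℕ} {a : Fin (r + 1) → ℕ}
  (G : ∀ j : Fin (r + 1), LefPen.Form n k (a j))

local notation "P" => CohB1.ProjSpace n k
local notation "O[" i "]" => Twist.twistProjSpace n k i

theorem ciIdeal_succ :
    LefPen.ciIdeal G = LefPen.ciIdeal (pre G) ⊔ LefPen.hypIdeal (G (Fin.last r)) := by
  refine le_antisymm (iSup_le fun j => ?_) (sup_le (iSup_le fun j => ?_) (le_iSup (fun j => LefPen.hypIdeal (G j)) _))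
  · refine Fin.lastCases le_sup_right (fun j => ?_) j
    exact le_sup_of_le_left (le_iSup (fun j => LefPen.hypIdeal (pre G j)) j)
  · exact le_iSup (fun j => LefPen.hypIdeal (G j)) j.castSucc

/-- The twisted step sequence, compatible with the maps from `O(i)`. -/
theorem exists_step_seq {m : ℕ} (hm : m + (r + 1) ≤ n) (h : DimLE G m)
    (hne : ((LefPen.ciIdeal G).support : Set P).Nonempty) (i : ℤ) :
    ∃ (S : ShortComplex (P).Modules)
      (_ : S.X₁ ≅ (DCoh.tensorBi.obj O[i - (a (Fin.last r) : ℤ)]).obj (ClSub.quotMod (LefPen.ciIdeal (pre G))))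
      (e₂ : S.X₂ ≅ (DCoh.tensorBi.obj O[i]).obj (ClSub.quotMod (LefPen.ciIdeal (pre G))))
      (e₃ : S.X₃ ≅ (DCoh.tensorBi.obj O[i]).obj (ClSub.quotMod (LefPen.ciIdeal G))), S.ShortExact ∧
      ((DCoh.tensorBi.obj O[i]).map (ClSub.toSubscheme (LefPen.ciIdeal (pre G))) ≫ e₂.inv) ≫ S.g ≫ e₃.hom =
        (DCoh.tensorBi.obj O[i]).map (ClSub.toSubscheme (LefPen.ciIdeal G)) := by
  haveI : IsProper (P ↘ Spec (CommRingCat.of k)) := PnCoh.Chow.isProper_toSpec n k
  haveI := CurveCohLib.isNoetherian_of_proper (k := k) (X := P)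
  rw [ciIdeal_succ G]
  obtain ⟨eH⟩ := HypX.nonempty_iso_idealMod (G (Fin.last r)) (last_ne_zero G hm h hne)
  have hH : BlowUp.IsEffCartierIdeal (LefPen.hypIdeal (G (Fin.last r))) :=
    (S8914.result _).1 (H23.PicMul.isInvertible_of_iso eH.symm (PnPic.isInvertible_twistProjSpace n k _))
  have hass : ∀ x ∈ (LefPen.hypIdeal (G (Fin.last r))).support,
      ¬ Curv2.IsAssPoint (ClSub.quotMod (LefPen.ciIdeal (pre G))) x := fun x hx => by
    obtain ⟨j, hj⟩ := exists_chart x
    refine not_isAssPoint_quotMod _ (LefPen.dehom (G (Fin.last r)) j) hj ?_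
      fun z hzx hz => stalkMap_last_mem_nonZeroDivisors G hm h z j hz
    intro hu
    refine ((Div21Lib.notMem_support_iff _ x).2 ?_) hx
    rw [st_hypIdeal (G (Fin.last r)) j hj]
    exact Ideal.span_singleton_eq_top.2 hu
  obtain ⟨S, e₁, e₂, e₃, hS, hw⟩ := exists_cut_seq _ _ hH hass
  obtain ⟨t⟩ := PnCoh.Finite.twist_tensor_iso (𝒜 := CohB1.polyGrading n k) (PnPic.crd n k) (PnPic.crd_mem n k)
    (PnPic.crd_cov n k) i (-(a (Fin.last r) : ℤ))
  let E := (DCoh.tensorBi (X := P)).obj O[i]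
  let Q := ClSub.quotMod (LefPen.ciIdeal (pre G))
  let f₁ : E.obj ((DCoh.tensorBi.obj Q).obj (ClSub.idealMod (LefPen.hypIdeal (G (Fin.last r))))) ≅
      (DCoh.tensorBi.obj O[i - (a (Fin.last r) : ℤ)]).obj Q :=
    E.mapIso (ExtShX.tensorSwap Q _ ≪≫ (DCoh.tensorBi.mapIso eH).app Q) ≪≫
      (ExtShX.tensorAssoc O[i] O[(-(a (Fin.last r) : ℤ))] Q).symm ≪≫
      (DCoh.tensorBi.mapIso (t ≪≫ eqToIso (by rw [Int.sub_eq_add_neg]; rfl))).app Q
  have hflf : FlatMod.IsFinLocFree O[i] := fun y =>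
    let ⟨W, hy, he⟩ := InvEnd.isFinLocFreeOfRank_one (PnPic.isInvertible_twistProjSpace n k i) y
    ⟨W, 1, hy, he⟩
  refine ⟨ShortComplex.mk (E.map S.f) (E.map S.g) _, E.mapIso e₁ ≪≫ f₁, E.mapIso e₂, E.mapIso e₃,
    CurveTensor.shortExact_tensor hflf _ _ S.zero hS, ?_⟩
  show (E.map _ ≫ E.map e₂.inv) ≫ E.map S.g ≫ E.map e₃.hom = _
  rw [← E.map_comp, ← E.map_comp, ← E.map_comp, hw]

end Groth.Agent.CICohLib
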