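import Groth.Agent.CICohLib.Dim
import Groth.Agent.CurveAlgEqLib.IdealPull
import Groth.Agent.HypX.IdealTwist
import Groth.Agent.PnPic.Twist
import Groth.Agent.H23.PicMul

/-!
One step in a complete intersection: the last hypersurface cuts an effective Cartier divisor.
-/

noncomputable section

set_option autoImplicit false
set_option linter.style.haveILetI false
set_option linter.unusedSectionVars false
set_option backward.isDefEq.respectTransparency false
set_option backward.isDefEq.respectTransparency.types false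

universe u

open CategoryTheory AlgebraicGeometry TopologicalSpace IsLocalRing

namespace Groth.Agent.CICohLib

open Groth.Agent.VarDim Groth.Agent.VarDim.ProjN

variable {k : Type u} [Field k] {n : ℕ} {r : ℕ} {a : Fin (r + 1) → ℕ}
  (G : ∀ j : Fin (r + 1), LefPen.Form n k (a j))

local notation "P" => CohB1.ProjSpace n k
local notation "𝒜" => CohB1.polyGrading n k

/-- All common zeros have dimension at most `m`. -/
def DimLE {s : ℕ} {b : Fin s → ℕ} (F : ∀ j : Fin s, LefPen.Form n k (b j)) (m : ℕ) : Prop :=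
  ∀ x : P, (∀ j, (F j).1 ∈ (pp (x : ProjectiveSpectrum 𝒜)).asIdeal) → pdim (x : ProjectiveSpectrum 𝒜) ≤ m

/-- All but the last of the forms. -/
abbrev pre : ∀ j : Fin r, LefPen.Form n k (a j.castSucc) := fun j => G j.castSucc

theorem dimLE_pre (ha : 1 ≤ a (Fin.last r)) {m : ℕ} (h : DimLE G m) : DimLE (pre G) (m + 1) := by
  intro x hx
  rcases Nat.eq_zero_or_pos (pdim (x : ProjectiveSpectrum 𝒜)) with h0 | h0
  · omega
  obtain ⟨z, hyz, hHz, hz⟩ := exists_mem_pdim ha (G (Fin.last r)) h0
  have := h z fun j => Fin.lastCases hHz (fun j => pp_le_pp.2 hyz (hx j)) j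
  omega

theorem list_eq (i : Fin (n + 1)) {x : P} (hx : x ∈ LefPen.chart n k i) :
    (List.ofFn fun j => gm (G j) i hx) = (List.ofFn fun j => gm (pre G j) i hx) ++ [gm (G (Fin.last r)) i hx] := by
  rw [List.ofFn_succ', List.concat_eq_append]

/-- The last equation is regular modulo the others at the common zeros. -/
theorem mem_of_mul_mem {m : ℕ} (hm : m + (r + 1) ≤ n) (h : DimLE G m) (i : Fin (n + 1)) {x : P}
    (hx : x ∈ LefPen.chart n k i) (hxY : x ∈ ((LefPen.ciIdeal (pre G)).support : Set P))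
    {s : (P).presheaf.stalk x}
    (hs : s * gm (G (Fin.last r)) i hx ∈ Ideal.ofList (List.ofFn fun j => gm (pre G j) i hx)) :
    s ∈ Ideal.ofList (List.ofFn fun j => gm (pre G j) i hx) := by
  by_cases hu : IsUnit (gm (G (Fin.last r)) i hx)
  · exact (Ideal.mul_unit_mem_iff_mem _ hu).1 hs
  · have hxX : x ∈ ((LefPen.ciIdeal G).support : Set P) := (mem_support_ci G x).2 fun j =>
      Fin.lastCases (by_contra fun hn => hu ((isUnit_gm _ i hx).2 hn)) (fun j => (mem_support_ci (pre G) x).1 hxY j) j
    have hreg := isWeaklyRegular_gm G hm h i hx hxX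
    rw [list_eq, RingTheory.Sequence.isWeaklyRegular_append_iff,
      RingTheory.Sequence.isWeaklyRegular_singleton_iff] at hreg
    have h0 : gm (G (Fin.last r)) i hx • (Submodule.Quotient.mk s : _ ⧸ (Ideal.ofList (List.ofFn fun j => gm (pre G j) i hx) • ⊤ :
        Submodule ((P).presheaf.stalk x) ((P).presheaf.stalk x))) = 0 := by
      rw [← Submodule.Quotient.mk_smul, Submodule.Quotient.mk_eq_zero, smul_eq_mul, smul_eq_mul, Ideal.mul_top, mul_comm]
      exact hs
    have h1 : (Submodule.Quotient.mk s : _ ⧸ (Ideal.ofList (List.ofFn fun j => gm (pre G j) i hx) • ⊤ :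
        Submodule ((P).presheaf.stalk x) ((P).presheaf.stalk x))) = 0 :=
      hreg.2 (by simpa using h0)
    rw [Submodule.Quotient.mk_eq_zero, smul_eq_mul, Ideal.mul_top] at h1
    exact h1

theorem last_ne_zero {m : ℕ} (hm : m + (r + 1) ≤ n) (h : DimLE G m)
    (hne : ((LefPen.ciIdeal G).support : Set P).Nonempty) : G (Fin.last r) ≠ 0 := by
  intro h0
  obtain ⟨x, hxX⟩ := hne
  obtain ⟨i, hx⟩ := exists_chart x
  have hxY : x ∈ ((LefPen.ciIdeal (pre G)).support : Set P) :=
    (mem_support_ci (pre G) x).2 fun j => (mem_support_ci G x).1 hxX j.castSucc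
  have hz : gm (G (Fin.last r)) i hx = 0 := by
    have : gm (G (Fin.last r)) i hx ∈ (Ideal.span {gm (G (Fin.last r)) i hx}) := Ideal.mem_span_singleton_self _
    have hd : LefPen.dehom (G (Fin.last r)) i = 0 := by
      rw [h0, LefPen.dehom]
      have : HomogeneousLocalization.Away.mk (CohB1.polyGrading n k) (LefPen.X_mem n k i) (a (Fin.last r))
          (((0 : LefPen.Form n k (a (Fin.last r))) : MvPolynomial (Fin (n + 1)) k))
          (by rw [smul_eq_mul, mul_one]; exact (0 : LefPen.Form n k (a (Fin.last r))).2) = 0 := by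
        apply HomogeneousLocalization.val_injective
        rw [HomogeneousLocalization.Away.val_mk, HomogeneousLocalization.val_zero]
        exact Localization.mk_zero _
      rw [this, map_zero]
    rw [gm, hd, map_zero]
  have h1 := mem_of_mul_mem G hm h i hx hxY (s := 1) (by rw [hz, mul_zero]; exact Submodule.zero_mem _)
  have htop := Ideal.eq_top_of_isUnit_mem _ h1 isUnit_one
  rw [← st_ciIdeal (pre G) i hx, ← Div21Lib.notMem_support_iff] at htop
  exact htop hxY

theorem stalkMap_last_mem_nonZeroDivisors {m : ℕ} (hm : m + (r + 1) ≤ n) (h : DimLE G m)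
    (y : (LefPen.ciIdeal (pre G)).subscheme) (i : Fin (n + 1))
    (hy : (LefPen.ciIdeal (pre G)).subschemeι y ∈ LefPen.chart n k i) :
    ((LefPen.ciIdeal (pre G)).subschemeι.stalkMap y).hom (gm (G (Fin.last r)) i hy) ∈ nonZeroDivisors _ := by
  rw [mem_nonZeroDivisors_iff_right]
  intro b hb
  obtain ⟨s, rfl⟩ := (LefPen.ciIdeal (pre G)).subschemeι.stalkMap_surjective y b
  have hker : RingHom.ker ((LefPen.ciIdeal (pre G)).subschemeι.stalkMap y).hom = Ideal.ofList (List.ofFn fun j => gm (pre G j) i hy) := by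
    rw [CartierFP.ker_stalkMap_subschemeι (LefPen.ciIdeal (pre G)) (HypX.chartAff i) y hy,
      ← st_ciIdeal (pre G) i hy, Div21Lib.st_eq _ (HypX.chartAff i) hy]
  have hs := mem_of_mul_mem G hm h i hy
    ((LefPen.ciIdeal (pre G)).range_subschemeι.le (Set.mem_range_self y)) (s := s) (by
      rw [← hker, RingHom.mem_ker, map_mul]
      exact hb)
  rw [← hker, RingHom.mem_ker] at hs
  exact hs

theorem isEffCartier_step {m : ℕ} (hm : m + (r + 1) ≤ n) (h : DimLE G m) :
    BlowUp.IsEffCartierIdeal ((LefPen.hypIdeal (G (Fin.last r))).comap (LefPen.ciIdeal (pre G)).subschemeι) := by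
  let f := (LefPen.ciIdeal (pre G)).subschemeι
  let I := (LefPen.hypIdeal (G (Fin.last r))).comap f
  let Q : ∀ y, Ideal ((LefPen.ciIdeal (pre G)).subscheme.presheaf.stalk y) := fun y => Div21Lib.st I y
  have hgen : ∀ (y) (i : Fin (n + 1)) (hy : f y ∈ LefPen.chart n k i),
      Q y = Ideal.span {(f.stalkMap y).hom (gm (G (Fin.last r)) i hy)} := fun y i hy => by
    show Div21Lib.st I y = _
    rw [Div21Lib.st_comap, st_hypIdeal (G (Fin.last r)) i hy, Ideal.map_span, Set.image_singleton]
  have hQ : ∀ y, ∃ W : (LefPen.ciIdeal (pre G)).subscheme.Opens, y ∈ W ∧ ∃ (b : Γ((LefPen.ciIdeal (pre G)).subscheme, W)),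
      ∀ (z) (hz : z ∈ W), Q z = Ideal.span {(LefPen.ciIdeal (pre G)).subscheme.presheaf.germ W z hz b} := fun y => by
    obtain ⟨i, hy⟩ := exists_chart (f y)
    refine ⟨f ⁻¹ᵁ LefPen.chart n k i, hy, f.app _ (LefPen.dehom (G (Fin.last r)) i), fun z hz => ?_⟩
    rw [hgen z i hz]
    congr 2
    exact Scheme.Hom.germ_stalkMap_apply f (LefPen.chart n k i) z hz _
  have hI : I = Div21Lib.ofStalks Q hQ := Div21Lib.ext_st fun y => (Div21Lib.st_ofStalks Q hQ y).symm
  rw [show (LefPen.hypIdeal (G (Fin.last r))).comap f = Div21Lib.ofStalks Q hQ from hI]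
  refine Div21Lib.isEffCartier_ofStalks Q hQ fun y g hg => ?_
  obtain ⟨i, hy⟩ := exists_chart (f y)
  have hgg := (hgen y i hy).symm.trans hg
  have hnz := stalkMap_last_mem_nonZeroDivisors G hm h y i hy
  obtain ⟨c, hc⟩ := Ideal.mem_span_singleton'.1 (hgg.le (Ideal.mem_span_singleton_self _))
  change (f.stalkMap y).hom (gm (G (Fin.last r)) i hy) ∈ nonZeroDivisors _ at hnz
  rw [← hc] at hnz
  exact (mul_mem_nonZeroDivisors.1 hnz).2

/-- The ideal of the last step is the restriction of `O(-a)`. -/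
theorem nonempty_step_iso {m : ℕ} (hm : m + (r + 1) ≤ n) (h : DimLE G m)
    (hne : ((LefPen.ciIdeal G).support : Set P).Nonempty) :
    Nonempty (ClSub.idealMod ((LefPen.hypIdeal (G (Fin.last r))).comap (LefPen.ciIdeal (pre G)).subschemeι) ≅
      (Scheme.Modules.pullback (LefPen.ciIdeal (pre G)).subschemeι).obj
        (Twist.twistProjSpace n k (-(a (Fin.last r) : ℤ)))) := by
  obtain ⟨e⟩ := HypX.nonempty_iso_idealMod (G (Fin.last r)) (last_ne_zero G hm h hne)
  obtain ⟨t⟩ := CurveAlgEqLib.nonempty_pullback_idealMod (LefPen.ciIdeal (pre G)).subschemeι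
    (H23.PicMul.isInvertible_of_iso e.symm (PnPic.isInvertible_twistProjSpace n k _))
    ((S8914.result _).2 (isEffCartier_step G hm h))
  exact ⟨t.symm ≪≫ (Scheme.Modules.pullback _).mapIso e⟩

end Groth.Agent.CICohLib
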